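import Cfsg.Agent.ChevTw.TwE6Diag
import Cfsg.Agent.ChevTw.TwE6Thms
import Cfsg.Agent.ChevTw.TwPerfect
import Mathlib.GroupTheory.NoncommPiCoprod

/-!
# The radical `q^(1+20)` of ²E₆(q) modulo its centre, with the action of the Levi root elements (owner: helper35)

`L20` lists the twenty roots of E₆ with `p₂`-coefficient one (eight `ρ`-fixed ones first, then six pairs),
`L30` the roots with `p₂`-coefficient zero. `tgt e i` is the root `L30 e + L20 i` with its structure constant,
`src e k` the root `L20 k - L30 e`.
-/

set_option autoImplicit false
set_option linter.unusedSectionVars false

namespace Cfsg.Agent.TwE6Deg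

open Cfsg.Lie Cfsg.Agent.ChevGrp Cfsg.Agent.ChevTw

/-- The roots of `p₂`-coefficient one. -/
def L20 : Fin 20 → ℕ := ![46, 47, 51, 63, 53, 65, 69, 70, 48, 50, 49, 61, 52, 62, 54, 64, 55, 67, 66, 68]

/-- The roots of `p₂`-coefficient zero. -/
def L30 : Fin 30 → ℕ := ![11, 12, 13, 14, 15, 26, 27, 28, 29, 30, 31, 32, 33, 34, 35, 36, 37, 38, 39, 40, 41,
  42, 43, 44, 45, 56, 57, 58, 59, 60]

/-- The symmetry on `L20`. -/
def p20 : Fin 20 → Fin 20 := ![0, 1, 2, 3, 4, 5, 6, 7, 9, 8, 11, 10, 13, 12, 15, 14, 17, 16, 19, 18]

/-- The signs on `L20`. -/
def g20 : Fin 20 → ℤ := ![1, 1, 1, 1, 1, 1, 1, 1, 1, 1, -1, -1, -1, -1, -1, -1, -1, -1, 1, 1]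

/-- The symmetry on `L30`. -/
def p30 : Fin 30 → Fin 30 := ![0, 5, 9, 12, 14, 1, 6, 10, 13, 2, 7, 11, 3, 8, 4, 25, 21, 26, 18, 22, 27, 16, 19,
  23, 28, 15, 17, 20, 24, 29]

/-- The signs on `L30`. -/
def g30 : Fin 30 → ℤ := ![1, -1, 1, -1, 1, -1, 1, -1, 1, 1, -1, 1, -1, 1, 1, 1, 1, -1, 1, -1, 1, 1, -1, 1, -1, 1,
  -1, 1, -1, 1]

/-- The table. -/
def tgt : Fin 30 → Fin 20 → Option (Fin 20 × ℤ) :=
  ![
    ![none, none, none, some (0, -1), none, some (1, -1), some (2, -1), some (4, -1), none, none, none, none, none, none, none, none, none, none, some (8, -1), some (9, -1)],
    ![none, none, none, none, none, none, some (12, 1), some (14, 1), none, none, none, none, none, some (0, -1), none, some (1, -1), none, some (9, -1), some (10, 1), none],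
    ![none, none, none, none, none, some (10, 1), none, some (16, -1), none, none, none, some (0, -1), none, none, none, some (8, 1), none, some (2, 1), none, some (12, 1)],
    ![none, none, none, some (10, 1), none, none, some (16, -1), none, none, none, none, some (1, 1), none, some (8, 1), none, none, none, some (4, -1), none, some (14, -1)],
    ![none, none, none, some (12, -1), none, some (14, -1), none, none, none, none, none, some (9, -1), none, some (2, -1), none, some (4, -1), none, none, some (16, -1), none],
    ![none, none, none, none, none, none, some (13, 1), some (15, 1), none, none, none, none, some (0, -1), none, some (1, -1), none, some (8, -1), none, none, some (11, 1)],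
    ![none, none, some (0, -1), none, some (1, -1), none, some (3, -1), some (5, -1), none, none, none, none, none, none, none, none, some (10, 1), some (11, 1), none, none],
    ![none, none, none, none, some (8, 1), none, none, some (18, 1), none, some (0, -1), none, none, none, none, some (10, 1), none, none, some (13, -1), none, some (3, -1)],
    ![none, none, some (8, 1), none, none, none, some (18, 1), none, none, some (1, 1), none, none, some (10, 1), none, none, none, none, some (15, 1), none, some (5, 1)],
    ![none, none, none, none, none, some (11, -1), none, some (17, 1), none, none, some (0, 1), none, none, none, some (9, -1), none, some (2, -1), none, some (13, -1), none],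
    ![none, none, none, none, some (9, -1), none, none, some (19, -1), some (0, 1), none, none, none, none, none, none, some (11, -1), some (12, 1), none, some (3, 1), none],
    ![none, some (0, 1), none, none, some (2, 1), some (3, 1), none, some (6, 1), none, none, none, none, none, none, some (12, 1), some (13, 1), none, none, none, none],
    ![none, none, none, some (11, 1), none, none, some (17, -1), none, none, none, some (1, 1), none, some (9, 1), none, none, none, some (4, -1), none, some (15, -1), none],
    ![none, none, some (9, 1), none, none, none, some (19, 1), none, some (1, 1), none, none, none, none, some (11, 1), none, none, some (14, 1), none, some (5, 1), none],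
    ![none, none, none, some (13, 1), none, some (15, 1), none, none, none, none, some (8, 1), none, some (2, 1), none, some (4, 1), none, none, none, none, some (17, 1)],
    ![none, none, some (12, 1), none, some (14, 1), none, none, none, some (10, 1), none, none, none, none, some (3, 1), none, some (5, 1), none, some (19, 1), none, none],
    ![none, some (8, 1), none, none, none, some (18, 1), none, none, none, some (2, 1), none, some (13, 1), none, none, some (16, 1), none, none, none, none, some (6, 1)],
    ![none, some (10, 1), none, none, some (16, -1), none, none, none, none, some (12, 1), none, some (3, 1), none, none, none, some (18, -1), none, some (6, -1), none, none],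
    ![some (1, 1), none, some (4, 1), some (5, 1), none, none, some (7, 1), none, none, none, none, none, some (14, 1), some (15, 1), none, none, none, none, none, none],
    ![some (8, 1), none, none, some (18, 1), none, none, none, none, none, some (4, -1), none, some (15, -1), some (16, 1), none, none, none, none, none, none, some (7, -1)],
    ![some (10, 1), none, some (16, -1), none, none, none, none, none, none, some (14, -1), none, some (5, -1), none, some (18, -1), none, none, none, some (7, 1), none, none],
    ![none, some (9, 1), none, none, none, some (19, 1), none, none, some (2, 1), none, some (12, 1), none, none, none, none, some (17, 1), none, none, some (6, 1), none],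
    ![some (9, -1), none, none, some (19, -1), none, none, none, none, some (4, 1), none, some (14, 1), none, none, some (17, -1), none, none, none, none, some (7, 1), none],
    ![some (2, -1), some (4, -1), none, some (6, -1), none, some (7, -1), none, none, none, none, some (16, 1), some (17, 1), none, none, none, none, none, none, none, none],
    ![some (12, -1), some (14, -1), none, none, none, none, none, none, some (16, -1), none, none, some (19, 1), none, some (6, 1), none, some (7, 1), none, none, none, none],
    ![none, none, some (13, -1), none, some (15, -1), none, none, none, none, some (11, -1), none, none, some (3, -1), none, some (5, -1), none, some (18, -1), none, none, none],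
    ![none, some (11, 1), none, none, some (17, -1), none, none, none, some (13, 1), none, some (3, 1), none, none, none, some (19, -1), none, some (6, -1), none, none, none],
    ![some (11, -1), none, some (17, 1), none, none, none, none, none, some (15, 1), none, some (5, 1), none, some (19, 1), none, none, none, some (7, -1), none, none, none],
    ![some (13, -1), some (15, -1), none, none, none, none, none, none, none, some (17, -1), some (18, 1), none, some (6, 1), none, some (7, 1), none, none, none, none, none],
    ![some (3, -1), some (5, -1), some (6, -1), none, some (7, -1), none, none, none, some (18, -1), some (19, -1), none, none, none, none, none, none, none, none, none, none]]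

/-- The table. -/
def src : Fin 30 → Fin 20 → Option (Fin 20 × ℤ) :=
  ![
    ![some (3, -1), some (5, -1), some (6, -1), none, some (7, -1), none, none, none, some (18, -1), some (19, -1), none, none, none, none, none, none, none, none, none, none],
    ![some (13, -1), some (15, -1), none, none, none, none, none, none, none, some (17, -1), some (18, 1), none, some (6, 1), none, some (7, 1), none, none, none, none, none],
    ![some (11, -1), none, some (17, 1), none, none, none, none, none, some (15, 1), none, some (5, 1), none, some (19, 1), none, none, none, some (7, -1), none, none, none],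
    ![none, some (11, 1), none, none, some (17, -1), none, none, none, some (13, 1), none, some (3, 1), none, none, none, some (19, -1), none, some (6, -1), none, none, none],
    ![none, none, some (13, -1), none, some (15, -1), none, none, none, none, some (11, -1), none, none, some (3, -1), none, some (5, -1), none, some (18, -1), none, none, none],
    ![some (12, -1), some (14, -1), none, none, none, none, none, none, some (16, -1), none, none, some (19, 1), none, some (6, 1), none, some (7, 1), none, none, none, none],
    ![some (2, -1), some (4, -1), none, some (6, -1), none, some (7, -1), none, none, none, none, some (16, 1), some (17, 1), none, none, none, none, none, none, none, none],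
    ![some (9, -1), none, none, some (19, -1), none, none, none, none, some (4, 1), none, some (14, 1), none, none, some (17, -1), none, none, none, none, some (7, 1), none],
    ![none, some (9, 1), none, none, none, some (19, 1), none, none, some (2, 1), none, some (12, 1), none, none, none, none, some (17, 1), none, none, some (6, 1), none],
    ![some (10, 1), none, some (16, -1), none, none, none, none, none, none, some (14, -1), none, some (5, -1), none, some (18, -1), none, none, none, some (7, 1), none, none],
    ![some (8, 1), none, none, some (18, 1), none, none, none, none, none, some (4, -1), none, some (15, -1), some (16, 1), none, none, none, none, none, none, some (7, -1)],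
    ![some (1, 1), none, some (4, 1), some (5, 1), none, none, some (7, 1), none, none, none, none, none, some (14, 1), some (15, 1), none, none, none, none, none, none],
    ![none, some (10, 1), none, none, some (16, -1), none, none, none, none, some (12, 1), none, some (3, 1), none, none, none, some (18, -1), none, some (6, -1), none, none],
    ![none, some (8, 1), none, none, none, some (18, 1), none, none, none, some (2, 1), none, some (13, 1), none, none, some (16, 1), none, none, none, none, some (6, 1)],
    ![none, none, some (12, 1), none, some (14, 1), none, none, none, some (10, 1), none, none, none, none, some (3, 1), none, some (5, 1), none, some (19, 1), none, none],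
    ![none, none, none, some (13, 1), none, some (15, 1), none, none, none, none, some (8, 1), none, some (2, 1), none, some (4, 1), none, none, none, none, some (17, 1)],
    ![none, none, some (9, 1), none, none, none, some (19, 1), none, some (1, 1), none, none, none, none, some (11, 1), none, none, some (14, 1), none, some (5, 1), none],
    ![none, none, none, some (11, 1), none, none, some (17, -1), none, none, none, some (1, 1), none, some (9, 1), none, none, none, some (4, -1), none, some (15, -1), none],
    ![none, some (0, 1), none, none, some (2, 1), some (3, 1), none, some (6, 1), none, none, none, none, none, none, some (12, 1), some (13, 1), none, none, none, none],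
    ![none, none, none, none, some (9, -1), none, none, some (19, -1), some (0, 1), none, none, none, none, none, none, some (11, -1), some (12, 1), none, some (3, 1), none],
    ![none, none, none, none, none, some (11, -1), none, some (17, 1), none, none, some (0, 1), none, none, none, some (9, -1), none, some (2, -1), none, some (13, -1), none],
    ![none, none, some (8, 1), none, none, none, some (18, 1), none, none, some (1, 1), none, none, some (10, 1), none, none, none, none, some (15, 1), none, some (5, 1)],
    ![none, none, none, none, some (8, 1), none, none, some (18, 1), none, some (0, -1), none, none, none, none, some (10, 1), none, none, some (13, -1), none, some (3, -1)],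
    ![none, none, some (0, -1), none, some (1, -1), none, some (3, -1), some (5, -1), none, none, none, none, none, none, none, none, some (10, 1), some (11, 1), none, none],
    ![none, none, none, none, none, none, some (13, 1), some (15, 1), none, none, none, none, some (0, -1), none, some (1, -1), none, some (8, -1), none, none, some (11, 1)],
    ![none, none, none, some (12, -1), none, some (14, -1), none, none, none, none, none, some (9, -1), none, some (2, -1), none, some (4, -1), none, none, some (16, -1), none],
    ![none, none, none, some (10, 1), none, none, some (16, -1), none, none, none, none, some (1, 1), none, some (8, 1), none, none, none, some (4, -1), none, some (14, -1)],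
    ![none, none, none, none, none, some (10, 1), none, some (16, -1), none, none, none, some (0, -1), none, none, none, some (8, 1), none, some (2, 1), none, some (12, 1)],
    ![none, none, none, none, none, none, some (12, 1), some (14, 1), none, none, none, none, none, some (0, -1), none, some (1, -1), none, some (9, -1), some (10, 1), none],
    ![none, none, none, some (0, -1), none, some (1, -1), some (2, -1), some (4, -1), none, none, none, none, none, none, none, none, none, none, some (8, -1), some (9, -1)]]

theorem data20 : ∀ i : Fin 20, L20 i < chevE6.nroots ∧ chevE6.IsPosRoot (L20 i) ∧ p20 (p20 i) = i ∧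
    g20 (p20 i) = g20 i ∧ g20 i * g20 i = 1 ∧ twE6.root (L20 i) = L20 (p20 i) ∧ symE6.sgn (L20 i) = g20 i ∧
    (p20 i = i → g20 i = 1) := by decide +kernel

theorem data30 : ∀ e : Fin 30, L30 e < chevE6.nroots ∧ p30 (p30 e) = e ∧
    g30 (p30 e) = g30 e ∧ g30 e * g30 e = 1 ∧ twE6.root (L30 e) = L30 (p30 e) ∧ symE6.sgn (L30 e) = g30 e ∧
    (p30 e = e → g30 e = 1) ∧
    ((e.val < 15 → chevE6.IsNegRoot (L30 e)) ∧ (15 ≤ e.val → chevE6.IsPosRoot (L30 e))) ∧
    ((p30 e).val < 15 ↔ e.val < 15) := by decide +kernel

theorem data71 : 71 < chevE6.nroots ∧ chevE6.IsPosRoot 71 ∧ twE6.root 71 = 71 ∧ symE6.sgn 71 = 1 ∧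
    (∀ i : Fin 20, 71 ≠ L20 i ∧ 71 ≠ chevE6.neg (L20 i) ∧ chevE6.commTerms (L20 i) 71 = []) ∧
    ∀ e : Fin 30, 71 ≠ L30 e ∧ 71 ≠ chevE6.neg (L30 e) ∧ chevE6.commTerms (L30 e) 71 = [] := by
  decide +kernel

theorem data2020 : ∀ i j : Fin 20, i = j ∨ (L20 j ≠ L20 i ∧ L20 j ≠ chevE6.neg (L20 i) ∧
    ∀ c ∈ chevE6.commTerms (L20 i) (L20 j), c.1 = 71) := by decide +kernel

theorem data3020 : ∀ (e : Fin 30) (i : Fin 20), L20 i ≠ L30 e ∧ L20 i ≠ chevE6.neg (L30 e) ∧
    chevE6.commTerms (L30 e) (L20 i) = (tgt e i).elim [] (fun p => [(L20 p.1, p.2, 1, 1)]) ∧
    ((tgt e i).all fun p => (tgt e p.1).isNone) = true := by decide +kernel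

theorem dataInv : ∀ (e : Fin 30) (i k : Fin 20) (C : ℤ),
    C ∈ ([1, -1] : List ℤ) → (tgt e i = some (k, C) ↔ src e k = some (i, C)) := by decide +kernel

theorem dataSign : ∀ (e : Fin 30) (i : Fin 20), 
    ((tgt e i).elim True fun p => p.2 = 1 ∨ p.2 = -1) ∧
    (src e i).elim True fun p => p.2 = 1 ∨ p.2 = -1 := by
  intro e i
  have h : ∀ (e : Fin 30) (i : Fin 20), ((tgt e i).all fun p => decide (p.2 = 1 ∨ p.2 = -1)) = true ∧
      ((src e i).all fun p => decide (p.2 = 1 ∨ p.2 = -1)) = true := by decide +kernel
  obtain ⟨h1, h2⟩ := h e i
  constructor
  · rcases ht : tgt e i with _ | p <;> simp_all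
  · rcases hs : src e i with _ | p <;> simp_all

theorem dataTgt : ∀ (e : Fin 30) (i : Fin 20), tgt (p30 e) (p20 i) =
    (tgt e i).map (fun p => (p20 p.1, p.2 * g30 e * g20 i * g20 p.1)) := by decide +kernel

theorem dataSrc : ∀ (e : Fin 30) (i : Fin 20), src (p30 e) (p20 i) =
    (src e i).map (fun p => (p20 p.1, p.2 * g30 e * g20 i * g20 p.1)) := by decide +kernel

theorem dataComp : ∀ (e : Fin 30) (i : Fin 20),
    ((tgt e i).bind fun p => (tgt (p30 e) p.1).map fun r => (r.1, p.2 * r.2)) =
      ((tgt (p30 e) i).bind fun p => (tgt e p.1).map fun r => (r.1, p.2 * r.2)) ∧
    ((src e i).bind fun p => (src (p30 e) p.1).map fun r => (r.1, p.2 * r.2)) =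
      ((src (p30 e) i).bind fun p => (src e p.1).map fun r => (r.1, p.2 * r.2)) := by decide +kernel

theorem dataPair : (∀ i : Fin 20, p20 i = i ∨ (L20 (p20 i) ≠ L20 i ∧ L20 (p20 i) ≠ chevE6.neg (L20 i) ∧
      chevE6.commTerms (L20 i) (L20 (p20 i)) = [])) ∧
    ∀ e : Fin 30, p30 e = e ∨ (L30 (p30 e) ≠ L30 e ∧ L30 (p30 e) ≠ chevE6.neg (L30 e) ∧
      chevE6.commTerms (L30 e) (L30 (p30 e)) = []) := by decide +kernel

end Cfsg.Agent.TwE6Deg
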